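import Cfsg.Agent.DA.St
import Cfsg.Agent.H8.SE2
import Cfsg.Agent.Blk.ZStar
import Cfsg.Agent.S0111
/-! Standard subgroups of type `2.A11` in simple groups are involution centralisers. -/
set_option autoImplicit false
set_option linter.unusedVariables false

namespace Cfsg.Agent.DA
open Subgroup Equiv Cfsg.Agent.H8Ly Cfsg.Agent.BG Cfsg.Agent.Inv

theorem cover {H : Type*} [Group H] (hH : IsNonsplitDoubleCover H A11) : ∃ (ψ : H →* A11) (z : H),
    Function.Surjective ψ ∧ ψ.ker = center H ∧ orderOf z = 2 ∧ z ∈ center H ∧ (∀ a ∈ center H, a = 1 ∨ a = z) ∧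
      ∀ a, Dbl (ψ a) → a * a = z := by
  obtain ⟨h1, ⟨e⟩, h3⟩ := hH
  obtain ⟨ψ, hk, hs⟩ : ∃ ψ : H →* A11, ψ.ker = center H ∧ Function.Surjective ψ :=
    ⟨e.toMonoidHom.comp (QuotientGroup.mk' _), by ext x; simp, e.surjective.comp (QuotientGroup.mk'_surjective _)⟩
  obtain ⟨⟨z, zc⟩, z1, hz⟩ := (Nat.card_eq_two_iff' (1 : center H)).1 h1
  have c : ∀ a ∈ center H, a = 1 ∨ a = z := fun a i => or_iff_not_imp_left.2 fun j =>
    congrArg Subtype.val (hz ⟨a, i⟩ fun k => j (congrArg Subtype.val k))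
  have z1' : z ≠ 1 := fun k => z1 (Subtype.ext k)
  have zz : z * z = 1 := (c _ (mul_mem zc zc)).resolve_right (by simpa using z1')
  refine ⟨ψ, z, hs, hk, ord2_iff.2 ⟨zz, z1'⟩, zc, c, fun a ⟨p, q⟩ => ?_⟩
  obtain ⟨g, hg⟩ := conj_inv p (τ := s 1 2 * s 0 3) (by decide +kernel) (q.trans (by decide +kernel))
  rw [← conj_mul, ← swap_apply_apply, ← swap_apply_apply] at hg
  have m : ∀ {i j}, i ≠ j → g i ≠ g j := fun i => g.injective.ne i
  obtain ⟨hL, -⟩ := Cov.lifts_two hs hk.le (IsPGroup.of_card (n := 1) (by rw [hk, h1, pow_one]))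
  obtain ⟨u, pu, hu⟩ := hL.ex (g 0) (g 1) (g 2) (m (by decide)) (m (by decide)) (m (by decide))
  obtain ⟨v, pv, hv⟩ := hL.ex (g 0) (g 1) (g 3) (m (by decide)) (m (by decide)) (m (by decide))
  have hw : (u * v)⁻¹ * a ∈ center H := by
    rw [← hk, MonoidHom.mem_ker, map_mul, map_inv, inv_mul_eq_one]
    exact Subtype.ext (by rw [map_mul, coe_mul, hu, hv, Cov.c3_mul (m (by decide)) (m (by decide)), hg])
  refine (c _ (hk ▸ Subtype.ext (by simpa using p))).resolve_left fun i => ?_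
  have hz : u * v * u * v = 1 := by
    rw [mul_assoc (u * v), ← i]
    rcases c _ hw with j | j
    · rw [inv_mul_eq_one.1 j]
    · rw [inv_mul_eq_iff_eq_mul.1 j, mul_assoc _ z, ← mem_center_iff.1 zc, mul_assoc (u * v) z, zz, mul_one]
  obtain ⟨χ, hχ⟩ := hL.section_of (m (by decide)) (m (by decide)) (m (by decide)) (m (by decide)) (m (by decide))
    (m (by decide)) pu pv hu hv (MonoidHom.id H) ψ (fun _ => rfl) hz
  refine h3 χ.range (isComplement'_of_disjoint_and_mul_eq_univ ?_ ?_)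
  · rw [disjoint_def]
    rintro _ h ⟨a, rfl⟩
    rw [← hk, MonoidHom.mem_ker, hχ] at h
    rw [h, map_one]
  · refine Set.eq_univ_of_forall fun y => ⟨y * (χ (ψ y))⁻¹, ?_, χ (ψ y), ⟨_, rfl⟩, by simp⟩
    rw [SetLike.mem_coe, ← hk, MonoidHom.mem_ker, map_mul, map_inv, hχ, mul_inv_cancel]

theorem aut_triv {H : Type*} [Group H] [hp : Group.IsPerfect H] (α : H →* H) (h : ∀ x, α x * x⁻¹ ∈ center H) (x : H) :
    α x = x := by
  let f : H →* center H := MonoidHom.mk' (fun x => ⟨_, h x⟩) fun a b => Subtype.ext (by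
    simp only [coe_mul, map_mul, mul_inv_rev]
    rw [mul_assoc (α a) a⁻¹, mem_center_iff.1 (h b)]; group)
  have : commutator H ≤ f.ker := commutator_le.2 fun a _ b _ => by
    rw [MonoidHom.mem_ker, map_commutatorElement, commutatorElement_eq_one_iff_mul_comm]
    exact Subtype.ext (mem_center_iff.1 (f b).2 _)
  have := this (hp.commutator_eq_top ▸ mem_top x)
  exact mul_inv_eq_one.1 (congrArg Subtype.val this)

variable {G : Type*} [Group G] [Finite G] {z t a b u x : G} {L M : Subgroup G} {π φ : G → P11} {n : ℕ}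

theorem exists_st (hL : IsStandardSubgroup L) (hX : IsNonsplitDoubleCover L A11) : ∃ z π, St z L π := by
  obtain ⟨⟨hp, -⟩, ⟨-, h2⟩, -, h4⟩ := hL
  obtain ⟨ψ, ⟨z, zL⟩, hs, hk, oz, zc, c, d⟩ := cover hX
  have LC : L ≤ C1[z] := fun a i => mem_C1.2 (congrArg Subtype.val (mem_center_iff.1 zc ⟨a, i⟩))
  let α : N[L] → L ≃* L := fun g => L.normalizerMonoidHom g
  have hα : ∀ g y, (α g y : G) = g.1 * y * g.1⁻¹ := fun _ _ => rfl
  have oz' : orderOf z = 2 := by rw [← oz, orderOf_mk]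
  have NC : N[L] ≤ C1[z] := fun g i => mem_C1.2 (mul_inv_eq_iff_eq_mul.1 (congrArg Subtype.val
    ((c (α ⟨g, i⟩ ⟨z, zL⟩) ((MulEquivClass.apply_mem_center_iff _).2 zc)).resolve_left fun j =>
      ne_one_of_ord2 oz (by simpa using j))))
  have ti : ∀ u ∈ C[L], orderOf u = 2 → ∀ g, g * u * g⁻¹ ∈ C[L] → g ∈ N[L] := fun u i j g k => by
    rw [h4]
    by_contra n
    have := orderOf_dvd_natCard _ (mem_inf.2 ⟨k, mem_cj_conj.2 i⟩)
    rw [orderOf_conj', j] at this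
    exact Nat.not_even_iff_odd.2 (h2 g n) (even_iff_two_dvd.2 this)
  have zK : z ∈ C[L] := mem_C.2 fun a i => mem_C1.1 (LC i)
  have CN : C1[z] ≤ N[L] := fun g i => ti z zK oz' g (by rwa [mem_C1.1 i, mul_inv_cancel_right])
  have ex : ∀ g, ∃ σ : P11, ∀ i : g ∈ N[L], ∀ y, (ψ (α ⟨g, i⟩ y) : P11) = σ * ψ y * σ⁻¹ := fun g => by
    by_cases i : g ∈ N[L]
    · obtain ⟨σ, e⟩ := aut ψ (ψ.comp (α ⟨g, i⟩).toMonoidHom) hs (hs.comp (α _).surjective) (by
        ext y; rw [← MonoidHom.comap_ker, mem_comap, hk]; exact (MulEquivClass.apply_mem_center_iff (α ⟨g, i⟩)).symm)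
      exact ⟨σ, fun _ => e⟩
    · exact ⟨1, fun j => absurd j i⟩
  choose π hπ using ex
  have un : ∀ σ τ : P11, (∀ y, σ * ψ y * σ⁻¹ = τ * ψ y * τ⁻¹) → σ = τ := fun σ τ i =>
    (inv_mul_eq_one.1 (cent_triv fun y j => by
      obtain ⟨y, e⟩ := hs ⟨y, j⟩
      have := i y
      rw [e] at this
      rw [mul_assoc, mul_inv_eq_iff_eq_mul.1 this]; group)).symm
  have pL : ∀ a (i : a ∈ L), π a = ψ ⟨a, i⟩ := fun a i => un _ _ fun y => by
    rw [← hπ a (normG L i), show α ⟨a, normG L i⟩ y = ⟨a, i⟩ * y * ⟨a, i⟩⁻¹ from rfl]; simp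
  refine ⟨z, π, oz', zL, LC, CN, fun a i b j => un _ _ fun y => ?_, fun a i => ⟨fun e => mem_C.2 fun y j => ?_,
    fun e => un _ _ fun y => ?_⟩, fun a i e => ?_, fun a i => pL a i ▸ (ψ _).2, fun σ i => ?_,
    fun a i e => congrArg Subtype.val (d ⟨a, i⟩ (pL a i ▸ e)), fun u i j g k => NC (ti u i j g k)⟩
  · rw [← hπ _ (CN (mul_mem i j)), show α ⟨a * b, _⟩ y = α ⟨a, CN i⟩ (α ⟨b, CN j⟩ y) from
      Subtype.ext (by simp only [hα]; group), hπ, hπ]; group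
  · have := aut_triv (α ⟨a, CN i⟩).toMonoidHom (fun y => by
      rw [← hk, MonoidHom.mem_ker, map_mul, map_inv, mul_inv_eq_one]
      exact Subtype.ext (by simpa [e] using hπ a (CN i) y)) ⟨y, j⟩
    exact (mul_inv_eq_iff_eq_mul.1 (congrArg Subtype.val this)).symm
  · rw [← hπ _ (CN i), show α ⟨a, _⟩ y = y from Subtype.ext (by rw [hα, ← mem_C.1 e y y.2, mul_inv_cancel_right])]; simp
  · exact (c ⟨a, i⟩ (hk ▸ Subtype.ext (pL a i ▸ e))).imp (congrArg Subtype.val) (congrArg Subtype.val)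
  · obtain ⟨⟨a, j⟩, e⟩ := hs ⟨σ, i⟩
    exact ⟨a, j, by rw [pL a j, e]⟩

theorem pie4 (e : a ^ 2 ^ 2 = 1) : PiE {2} a := fun p i j =>
  (Nat.prime_dvd_prime_iff_eq i Nat.prime_two).1 (i.dvd_of_dvd_pow (j.trans (orderOf_dvd_of_pow_eq_one e)))

variable [IsSimpleGroup G] (hG : ¬ IsMulCommutative G) (h : St z L π)
include hG h

theorem St.ncen : z ∉ center G := fun c => by
  rcases (inferInstance : (center G).Normal).eq_bot_or_eq_top with q | q
  · exact ne_one_of_ord2 h.oz (mem_bot.1 (q ▸ c))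
  · exact hG ⟨⟨fun a b => mem_center_iff.1 (q ▸ mem_top b) a⟩⟩

theorem St.exists_pr : ∃ g, g * z * g⁻¹ ∈ C1[z] ∧ g * z * g⁻¹ ≠ z := by
  by_contra! n
  haveI : Fact (Nat.Prime 2) := ⟨Nat.prime_two⟩
  have hO : pPrimeCore 2 G = ⊥ := by
    refine (inferInstance : (pPrimeCore 2 G).Normal).eq_bot_or_eq_top.resolve_right fun q => ?_
    have := Core.not_dvd_card_pPrimeCore (G := G) 2
    rw [q, card_top, ← h.oz] at this
    exact this (orderOf_dvd_natCard _)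
  refine h.ncen hG (mem_center_iff.2 fun g => ?_)
  have := Blk.zstar ⟨h.oz, fun g i => n g (mem_C1'.2 i)⟩ g
  rw [hO, mem_bot, mul_inv_eq_one, mul_inv_eq_iff_eq_mul] at this
  exact this.symm

theorem St.cls (ha : a ∈ L) (h2 : orderOf a = 2) : ∃ g : G, g * z * g⁻¹ = a := by
  obtain ⟨g, i, j⟩ := h.exists_pr hG
  obtain e | ⟨y, e⟩ := (h.pr i j).cls ha h2
  exacts [⟨1, by simp [e]⟩, ⟨y * g, by rw [e]; group⟩]

theorem St.oddinv (hx : x ∈ C1[z]) (ho : Perm.sign (π x) ≠ 1) :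
    ∃ u ∈ C1[z], u * u = 1 ∧ Perm.sign (π u) = -1 := by
  obtain ⟨g, i, j⟩ := h.exists_pr hG
  have p := h.pr i j
  obtain ⟨a, aL, e⟩ := h.sur (s 0 1 * (π x)⁻¹) (by simp [(Int.units_eq_one_or _).resolve_left ho])
  obtain ⟨y, yz, ey⟩ : ∃ y ∈ C1[z], π y = s 0 1 :=
    ⟨a * x, mul_mem (h.LC aL) hx, by rw [h.mul _ (h.LC aL) _ hx, e, inv_mul_cancel_right]⟩
  obtain ⟨k, m, om, e⟩ := Nat.exists_eq_two_pow_mul_odd (orderOf_pos y).ne'
  obtain ⟨w, wz, ew, w2⟩ : ∃ w ∈ C1[z], π w = s 0 1 ∧ w ^ 2 ^ k = 1 := by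
    refine ⟨y ^ m, pow_mem yz m, ?_, by rw [← pow_mul, mul_comm, ← e, pow_orderOf_eq_one]⟩
    obtain ⟨m, rfl⟩ := om
    rw [h.pow yz, ey, pow_succ, pow_mul, pow_two, swap_mul_self, one_pow, one_mul]
  rcases p.two (n := k) ((h.ker _ (mul_mem wz wz)).1 (by rw [h.mul _ wz _ wz, ew, swap_mul_self])) (by
    rw [← pow_two, ← pow_mul, mul_comm, pow_mul, w2, one_pow]) with q | q
  · exact ⟨w, wz, q, by rw [ew]; decide +kernel⟩
  obtain ⟨b, bL, eb, b3⟩ := h.lift (n := 3) (f := c 2 3 4) (by decide) (by decide +kernel)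
  obtain ⟨d, dL, ed, d3⟩ := h.lift (n := 3) (f := c 2 3 5) (by decide) (by decide +kernel)
  have c1 : Commute w b := h.comm (by decide) wz bL b3 (by rw [ew, eb]; decide +kernel)
  have c2 : Commute w d := h.comm (by decide) wz dL d3 (by rw [ew, ed]; decide +kernel)
  have bd := h.mul _ (h.LC bL) _ (h.LC dL)
  rw [eb, ed] at bd
  refine ⟨w * (b * d), mul_mem wz (h.LC (mul_mem bL dL)), ?_, by
    rw [h.mul _ wz _ (h.LC (mul_mem bL dL)), ew, bd]; decide +kernel⟩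
  rw [← pow_two, (c1.mul_right c2).mul_pow, pow_two, pow_two, q, h.dbl _ (mul_mem bL dL)
    (by rw [bd]; exact ⟨by decide +kernel, by decide +kernel⟩), sq_of_ord2 h.oz]

theorem St.syl {S : Subgroup G} (hS : Syl 2 S C1[z]) (hz : z ∈ S) : Syl 2 S ⊤ := by
  refine Syl.of_norm (hS.sub (le_inf le_top (normG S)) fun y ⟨_, i⟩ => by_contra fun n => ?_) Nat.prime_two
  have tz := hS.1 (conj_mem i hz)
  obtain ⟨a, aL, a2, -, e⟩ := (h.pr tz fun e => n (mem_C1.2 (mul_inv_eq_iff_eq_mul.1 e))).Q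
  generalize ht : y * z * y⁻¹ = t at tz e
  have SD : S ≤ C1[z] ⊓ C1[t] := le_inf hS.1 (by rw [← ht, ← cj_C1, ← cj_of_mem_N i]; exact cj_mono y hS.1)
  have az := h.LC aL
  have aN : a ∈ N[C1[z] ⊓ C1[t]] := inv_mem_iff.1 (mem_N_of fun b ⟨j, k⟩ => mem_inf.2
    ⟨mul_mem (mul_mem (inv_mem az) j) (inv_mem (inv_mem az)), mem_C1.2 (by
      rw [inv_inv, show a⁻¹ * b * a * t = a⁻¹ * (b * (a * t * a⁻¹)) * a by group,
        show t * (a⁻¹ * b * a) = a⁻¹ * (a * t * a⁻¹ * b) * a by group, e, ← mul_assoc b, mem_C1.1 k, mul_assoc t b,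
        mem_C1.1 j, mul_assoc t])⟩)
  obtain ⟨g, ⟨-, gN⟩, k⟩ := Syl.sub_cj (hS.sub (L := C1[z] ⊓ N[C1[z] ⊓ C1[t]]) (le_inf hS.1 (SD.trans (normG _)))
    inf_le_left) Nat.prime_two (zpowers_le.2 (mem_inf.2 ⟨az, aN⟩)) (pig_zpowers.2 (pie4 (by
      rw [show 2 ^ 2 = 2 * 2 from rfl, pow_mul, pow_two, pow_two, a2, sq_of_ord2 h.oz])))
  have := (cj_of_mem_N gN ▸ cj_mono g SD (k (mem_zpowers a))).2
  rw [mem_C1.1 this, mul_inv_cancel_right] at e
  exact ne_one_of_ord2 h.oz (by simpa using e)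

theorem St.even (hx : x ∈ C1[z]) : Perm.sign (π x) = 1 := by
  by_contra n
  obtain ⟨u, uz, u2, su⟩ := h.oddinv hG hx n
  have nu : π u ≠ 1 := fun e => by rw [e] at su; exact absurd su (by decide)
  have ou : orderOf u = 2 := ord2_iff.2 ⟨u2, fun e => nu (by rw [e, h.one])⟩
  obtain ⟨S, hS, i⟩ := syl_superset Nat.prime_two (U := zpowers u ⊔ zpowers z) (M := C1[z])
    (sup_le (zpowers_le.2 uz) (zpowers_le.2 (mem_C1_self z))) (PiG.sup_r (pig_zpowers.2 (pie_of_pow Nat.prime_two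
      (by rw [pow_two, u2]))) (pig_zpowers.2 (pie_of_pow Nat.prime_two (by rw [pow_two, sq_of_ord2 h.oz])))
      (zpowers_le.2 (C_le_N _ (by rwa [C_zpowers]))))
  have uS := i (mem_sup_left (mem_zpowers u))
  obtain ⟨P, rfl⟩ := (h.syl hG hS (i (mem_sup_right (mem_zpowers z)))).exists_sylow_top Nat.prime_two
  obtain ⟨g, i, j⟩ := h.exists_pr hG
  have k : ∀ b ∈ (P : Subgroup G), b ∈ (P : Subgroup G) ⊓ L ↔ Perm.sign (π b) = 1 := fun b l => by
    obtain ⟨m, e⟩ := P.isPGroup' ⟨b, l⟩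
    exact ⟨fun q => h.ev b q.2, fun q => ⟨l, (h.pr i j).mem (hS.1 l) q (congrArg Subtype.val e)⟩⟩
  obtain ⟨M, m1, m2, -⟩ | ⟨y, e⟩ := S0111.result P (P ⊓ L) inf_le_left (relIndex_eq_two_iff.2 ⟨u, uS, fun b l => by
    rw [k _ (mul_mem l uS), k b l, h.mul _ (hS.1 l) _ uz, map_mul, su]
    rcases Int.units_eq_one_or (Perm.sign (π b)) with q | q <;> rw [q] <;> decide⟩) u ou uS
    (by rw [k u uS, su]; decide)
  · obtain ⟨a, -, e, -⟩ := (h.pr i j).Q
    rcases m1.eq_bot_or_eq_top with rfl | rfl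
    · exact ne_one_of_ord2 h.oz (e ▸ mul_self_mem_of_index_two m2 a)
    · simp at m2
  · obtain ⟨w, e⟩ := h.cls hG e.2 (by rw [orderOf_conj', ou])
    obtain rfl : u = y⁻¹ * w * z * (y⁻¹ * w)⁻¹ := by rw [mul_inv_rev, mul_assoc _ w, mul_assoc _ _ (_ * _), ← mul_assoc _ w⁻¹, e]; group
    rw [(h.pr uz fun q => nu (by rw [q, h.pz])).ev] at su
    exact absurd su (by decide)

theorem St.oddK (hx : x ∈ C[L]) (hn : Odd (orderOf x)) : x = 1 := by
  have key : ∀ g, g * z * g⁻¹ ∈ C1[z] → ∀ x, Odd (orderOf x) → (x ∈ C[L] ↔ g⁻¹ * x * g ∈ C[L]) := fun g i x o => by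
    rw [← mem_cj, cj_C]
    by_cases j : g * z * g⁻¹ = z
    · rw [cj_of_mem_N (h.nL (mem_C1.2 (mul_inv_eq_iff_eq_mul.1 j)))]
    · exact ⟨(h.pr i j).symm.odd (fun _ => h.even hG) o (pow_orderOf_eq_one x),
        (h.pr i j).odd (fun _ => (h.conj g).even hG) o (pow_orderOf_eq_one x)⟩
  let H : Subgroup G :=
    { carrier := {g | ∀ x, Odd (orderOf x) → (x ∈ C[L] ↔ g⁻¹ * x * g ∈ C[L])}
      one_mem' := fun x _ => by simp
      mul_mem' := fun {a b} i j x o => by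
        rw [i x o, j _ (by rwa [orderOf_conj'']), mul_inv_rev]; simp only [mul_assoc]
      inv_mem' := fun {a} i x o => by rw [i (a⁻¹⁻¹ * x * a⁻¹) (by rwa [orderOf_conj''])]; simp [mul_assoc] }
  have CH : C1[z] ≤ H := fun g i => key g (mul_mem (mul_mem i (mem_C1_self z)) (inv_mem i))
  obtain ⟨g, i, j⟩ := h.exists_pr hG
  obtain ⟨a, aL, a2, o, -⟩ := (h.pr i j).Q
  have ot := (h.conj g).oz
  have e : H = ⊤ := H8SE.se_top h.oz (CH (mem_C1_self z)) (fun g i => CH (mem_C1.2 i)) (fun w l m => by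
    have wz := mem_C1.2 m
    obtain ⟨y, e⟩ := h.cls hG ((h.pr i j).mem (n := 1) wz (h.even hG wz) (by rw [pow_one, pow_two, sq_of_ord2 l])) l
    exact ⟨y, key y (e ▸ wz), e⟩) o ot (CH (mul_mem (h.LC aL) i)) (CH i) (by
      rw [mul_assoc a, sq_of_ord2 ot, mul_one, a2])
  rcases (C1[z]).normalCore_normal.eq_bot_or_eq_top with q | q
  · exact mem_bot.1 (q ▸ fun y => h.KC (by simpa using ((e ▸ mem_top y⁻¹ : y⁻¹ ∈ H) x hn).1 hx))
  · exact absurd (mem_center_iff.2 fun y => mem_C1.1 (normalCore_le _ (q ▸ mem_top y))) (h.ncen hG)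

theorem St.top : C1[z] = L := by
  refine le_antisymm (fun x i => ?_) h.LC
  obtain ⟨g, j, k⟩ := h.exists_pr hG
  obtain ⟨a, aL, e⟩ := h.sur _ (h.even hG i)
  have l := h.eqK (h.LC aL) i e
  rw [← mul_inv_cancel_left a x]
  generalize a⁻¹ * x = w at l
  obtain ⟨m, r, o, e⟩ := Nat.exists_eq_two_pow_mul_odd (orderOf_pos w).ne'
  have := h.oddK hG (pow_mem l (2 ^ m)) (by
    rwa [orderOf_pow_of_dvd (by positivity) ⟨r, e⟩, e, Nat.mul_div_cancel_left _ (by positivity)])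
  rcases (h.pr j k).two l this with rfl | rfl
  exacts [mul_mem aL (one_mem _), mul_mem aL h.zL]

end Cfsg.Agent.DA
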