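import Cfsg.Agent.H8.LyB
import Cfsg.Agent.Cov.An
/-! Permutation facts in degree 11. -/
set_option autoImplicit false
set_option linter.unusedVariables false

namespace Cfsg.Agent.DA
open Subgroup Equiv MulAction Cfsg.Agent.H8Ly

theorem pow_fix {α : Type*} {f : Perm α} {x : α} {a : ℕ} (h : (f ^ a) x = x) (k : ℕ) : (f ^ (a * k)) x = x := by
  rw [pow_mul]; exact Perm.pow_apply_eq_self_of_apply_eq_self h k

theorem orb_le {α : Type*} (g : Perm α) {A : Finset α} (hA : ∀ x ∈ A, g x ∈ A) {x : α} (hx : x ∈ A) {N a b : ℕ}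
    (hN : g ^ N = 1) (hd : ∀ d, d ∣ N → d = N ∨ d ∣ a ∨ d ∣ b) (ha : (g ^ a) x ≠ x) (hb : (g ^ b) x ≠ x) : N ≤ A.card := by
  have k : ∀ n, Function.minimalPeriod g x ∣ n ↔ (g ^ n) x = x := fun n => by
    rw [← Function.isPeriodicPt_iff_minimalPeriod_dvd, Perm.coe_pow]; rfl
  have e : Function.minimalPeriod g x = N :=
    (hd _ ((k N).2 (by rw [hN]; rfl))).resolve_right fun i => i.elim (fun j => ha ((k a).1 j)) fun j => hb ((k b).1 j)
  have m : ∀ n, g^[n] x ∈ A := fun n => by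
    induction n with
    | zero => exact hx
    | succ n ih => rw [Function.iterate_succ_apply']; exact hA _ ih
  rw [← Finset.card_range N]
  exact Finset.card_le_card_of_injOn (fun n => g^[n] x) (fun n _ => m n)
    (by rw [Finset.coe_range, ← e]; exact Function.iterate_injOn_Iio_minimalPeriod)

variable {σ τ υ f g ω : P11} {x : Fin 11}

theorem cap (c : σ * f = f * σ) (x : Fin 11) : σ (f x) = f (σ x) := congrArg (· x) c

theorem supp_c (c : σ * f = f * σ) (hx : x ∈ σ.support) : f x ∈ σ.support := by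
  rw [Perm.mem_support, cap c] at *; exact fun e => hx (f.injective e)

theorem dis5 (hσ : σ * σ = 1) (hf : f ^ 5 = 1) (c : σ * f = f * σ) (h8 : σ.support.card ≤ 8) (hx : σ x ≠ x) : f x = x := by
  by_contra n
  have c' : Commute σ f := c
  have := orb_le (σ * f) (A := σ.support) (fun y i => Perm.apply_mem_support.2 (supp_c c i)) (Perm.mem_support.2 hx)
    (N := 10) (a := 2) (b := 5) (by rw [c'.mul_pow, show 10 = 2 * 5 from rfl, pow_mul, pow_two, hσ, pow_mul', hf]; simp)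
    (fun d i => by have := Nat.le_of_dvd (by omega) i; interval_cases d <;> simp_all)
    (fun e => n (by
      rw [c'.mul_pow, pow_two, hσ, one_mul] at e
      have := pow_fix e 3
      rwa [show 2 * 3 = 5 + 1 from rfl, pow_succ, hf, one_mul] at this))
    (by rwa [c'.mul_pow, hf, mul_one, show 5 = 2 * 2 + 1 from rfl, pow_succ, pow_mul, pow_two σ, hσ, one_pow, one_mul])
  omega

theorem dis12 (hυ : υ ^ 4 = 1) (hf : f ^ 3 = 1) (c : υ * f = f * υ) (hx : (υ * υ) x ≠ x) : f x = x := by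
  by_contra n
  have c' : Commute υ f := c
  have := orb_le (υ * f) (A := Finset.univ) (fun y i => Finset.mem_univ _) (Finset.mem_univ x)
    (N := 12) (a := 4) (b := 6) (by
      rw [c'.mul_pow, show 12 = 4 * 3 from rfl, pow_mul, hυ, pow_mul', hf]; simp)
    (fun d i => by have := Nat.le_of_dvd (by omega) i; interval_cases d <;> simp_all)
    (by rwa [c'.mul_pow, hυ, one_mul, pow_succ, hf, one_mul])
    (by rwa [c'.mul_pow, show 6 = 3 * 2 from rfl, pow_mul f, hf, one_pow, mul_one, show 3 * 2 = 4 + 2 from rfl, pow_add,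
      hυ, one_mul, pow_two])
  simp at this

theorem even_of_odd {n : ℕ} (hn : Odd n) (h : f ^ n = 1) : Perm.sign f = 1 := by
  have := congrArg Perm.sign h
  rw [map_pow, map_one] at this
  rcases Int.units_eq_one_or (Perm.sign f) with e | e
  · exact e
  · rw [e, hn.neg_one_pow] at this; exact absurd this (by decide)

theorem small (h : Perm.sign f = 1) (h3 : f.support.card ≤ 3) : f ^ 3 = 1 := by
  have := f.card_support_ne_one
  obtain e | e | e : f.support.card = 0 ∨ f.support.card = 2 ∨ f.support.card = 3 := by omega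
  · rw [Perm.card_support_eq_zero.1 e, one_pow]
  · rw [(Perm.card_support_eq_two.1 e).sign_eq] at h; exact absurd h (by decide)
  · rw [← (card_support_eq_three_iff.1 e).orderOf, pow_orderOf_eq_one]

theorem off (h : σ.support.card = 8) (h1 : ∀ x, σ x ≠ x → f x = x) : f.support.card ≤ 3 := by
  have := Finset.card_le_card (show f.support ⊆ σ.supportᶜ from fun x i => Finset.mem_compl.2 fun j =>
    Perm.mem_support.1 i (h1 x (Perm.mem_support.1 j)))
  rwa [Finset.card_compl, h] at this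

/-- a double transposition -/
def Dbl (δ : P11) : Prop := δ * δ = 1 ∧ δ.support.card = 4

/-- transposition -/
abbrev s (i j : Fin 11) : P11 := swap i j
/-- three-cycle -/
abbrev c (i j k : Fin 11) : P11 := swap i j * swap i k
/-- the standard involution -/
def σ₀ : P11 := s 0 1 * s 2 3 * (s 4 5 * s 6 7)

theorem P1 (h : σ * σ = 1) (h1 : σ ≠ 1) (h8 : σ.support.card ≠ 8) : ∃ f g : P11, f ^ 5 = 1 ∧ g ^ 5 = 1 ∧ f ≠ 1 ∧
    σ * f = f * σ ∧ σ * g = g * σ ∧ Dbl (f * g) := by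
  have key : ∀ τ f g : P11, τ * τ = 1 ∧ f ^ 5 = 1 ∧ g ^ 5 = 1 ∧ f ≠ 1 ∧ τ * f = f * τ ∧ τ * g = g * τ ∧
      f * g * (f * g) = 1 ∧ (f * g).support.card = 4 → σ.support.card = τ.support.card → ∃ f g : P11, f ^ 5 = 1 ∧
      g ^ 5 = 1 ∧ f ≠ 1 ∧ σ * f = f * σ ∧ σ * g = g * σ ∧ Dbl (f * g) := fun τ f g ⟨a, b, d, e, i, j, k, l⟩ m => by
    obtain ⟨ρ, rfl⟩ := conj_inv h a m
    refine ⟨ρ * f * ρ⁻¹, ρ * g * ρ⁻¹, by rw [conj_pow, b]; simp, by rw [conj_pow, d]; simp, by simpa using e,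
      by rw [conj_mul, conj_mul, i], by rw [conj_mul, conj_mul, j], by rw [conj_mul, conj_mul, k]; simp,
      by rw [conj_mul, Perm.card_support_conj, l]⟩
  have e := (cyc_inv h).2
  have l : σ.support.card ≤ 11 := by simpa using σ.support.card_le_univ
  have p : σ.support.card ≠ 0 := by simpa using h1
  obtain e | e | e | e : σ.support.card = 2 ∨ σ.support.card = 4 ∨ σ.support.card = 6 ∨ σ.support.card = 10 := by omega
  · exact key (s 0 1) (c 6 7 8 * c 6 9 10) (c 6 7 9 * c 6 8 10) (by decide +kernel) (e.trans (by decide +kernel))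
  · exact key (s 0 1 * s 2 3) (c 6 7 8 * c 6 9 10) (c 6 7 9 * c 6 8 10) (by decide +kernel) (e.trans (by decide +kernel))
  · exact key (s 0 1 * s 2 3 * s 4 5) (c 6 7 8 * c 6 9 10) (c 6 7 9 * c 6 8 10) (by decide +kernel)
      (e.trans (by decide +kernel))
  · exact key (σ₀ * s 8 9) (c 0 2 4 * c 0 6 8 * (c 1 3 5 * c 1 7 9))
      (s 0 1 * s 2 3 * (c 0 2 4 * c 0 6 8 * (c 1 3 5 * c 1 7 9))⁻¹ * (s 0 1 * s 2 3)) (by decide +kernel)
      (e.trans (by decide +kernel))

theorem P2 (h : σ * σ = 1) (hf : f ^ 5 = 1) (hg : g ^ 5 = 1) (c1 : σ * f = f * σ) (c2 : σ * g = g * σ)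
    (e : f * g * (f * g) = σ) : σ = 1 := by
  by_contra n
  have h8 : σ.support.card ≤ 8 := by
    have := supp_inv h n (by rw [← e, map_mul, Int.units_mul_self]); omega
  obtain ⟨x, hx⟩ : ∃ x, σ x ≠ x := by by_contra! i; exact n (Equiv.ext i)
  refine hx ?_
  rw [← e]
  simp only [Perm.mul_apply, dis5 h hf c1 h8 hx, dis5 h hg c2 h8 hx]

theorem norm8 (h : σ * σ = 1) (h8 : σ.support.card = 8) : ∃ ρ : P11, ρ * σ * ρ⁻¹ = σ₀ :=
  conj_inv (by decide +kernel) h (Eq.trans (by decide +kernel) h8.symm)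

theorem fixc (c : σ * f = f * σ) (h : f x = x) : f (σ x) = σ x := by rw [← cap c, h]

theorem P3 (h : σ * σ = 1) (h8 : σ.support.card = 8) (hυ : υ * υ = 1) (h1 : υ ≠ 1)
    (hc : ∀ f : P11, f ^ 15 = 1 → υ * f = f * υ → σ * f = f * σ) : υ = σ := by
  have u8 : υ.support.card = 8 := by_contra fun n => by
    obtain ⟨f, -, a, -, b, d, -⟩ := P1 hυ h1 n
    have := small (even_of_odd (by decide) a) (off h8 fun x => dis5 h a
      (hc f (by rw [show 15 = 5 * 3 from rfl, pow_mul, a, one_pow]) d) h8.le)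
    exact b (orderOf_eq_one_iff.1 (Nat.eq_one_of_dvd_coprimes (show Nat.Coprime 5 3 by decide)
      (orderOf_dvd_of_pow_eq_one a) (orderOf_dvd_of_pow_eq_one this)))
  obtain ⟨ρ, e⟩ := norm8 hυ u8
  obtain ⟨τ, rfl⟩ : ∃ τ, σ = ρ⁻¹ * τ * ρ := ⟨ρ * σ * ρ⁻¹, by group⟩
  obtain rfl : υ = ρ⁻¹ * σ₀ * ρ := by rw [← e]; group
  have t2 : τ * τ = 1 := by
    rw [show τ * τ = ρ * (ρ⁻¹ * τ * ρ * (ρ⁻¹ * τ * ρ)) * ρ⁻¹ by group, h]; simp
  have t8 : τ.support.card = 8 := by rw [← h8, ← Perm.card_support_conj (σ := ρ⁻¹), inv_inv]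
  have k : ∀ f : P11, f ^ 15 = 1 ∧ σ₀ * f = f * σ₀ → τ * f = f * τ := fun f ⟨a, b⟩ => by
    have := hc (ρ⁻¹ * f * ρ) (by rw [← inv_inv ρ, inv_inv ρ⁻¹, conj_pow, a]; simp) (by
      rw [show ρ⁻¹ * σ₀ * ρ * (ρ⁻¹ * f * ρ) = ρ⁻¹ * (σ₀ * f) * ρ by group, b]; group)
    rw [show ρ⁻¹ * τ * ρ * (ρ⁻¹ * f * ρ) = ρ⁻¹ * (τ * f) * ρ by group,
      show ρ⁻¹ * f * ρ * (ρ⁻¹ * τ * ρ) = ρ⁻¹ * (f * τ) * ρ by group] at this
    simpa using this
  have k0 := k (c 8 9 10) (by decide +kernel)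
  have f0 : ∀ x, c 8 9 10 x ≠ x → τ x = x := fun x i => by_contra fun n => by
    have c' : Commute τ (c 8 9 10) := k0
    have q : c 8 9 10 ^ 3 = 1 := by decide +kernel
    have q2 : ∀ x, c 8 9 10 x ≠ x → (c 8 9 10 ^ 2) x ≠ x := by decide +kernel
    have := orb_le (τ * c 8 9 10) (A := (c 8 9 10).support) (fun y j => supp_c (f := τ) k0.symm (Perm.apply_mem_support.2 j))
      (Perm.mem_support.2 i) (N := 6) (a := 2) (b := 3) (by
        rw [c'.mul_pow, show 6 = 2 * 3 from rfl, pow_mul, pow_two, t2, pow_mul', q]; simp)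
      (fun d i => by have := Nat.le_of_dvd (by omega) i; interval_cases d <;> simp_all)
      (by rw [c'.mul_pow, pow_two, t2, one_mul]; exact q2 x i)
      (by rwa [c'.mul_pow, q, mul_one, pow_succ, pow_two, t2, one_mul])
    revert this; decide +kernel
  have q3 : ∀ x, ¬c 8 9 10 x ≠ x → x ∈ σ₀.support := by decide +kernel
  have sp : τ.support = σ₀.support := Finset.eq_of_subset_of_card_le (fun x i =>
    q3 x ((f0 x).mt (Perm.mem_support.1 i))) (by rw [t8]; decide +kernel)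
  have m : ∀ f : P11, f ^ 15 = 1 ∧ σ₀ * f = f * σ₀ → ∀ x, f x = x ∧ x ∈ σ₀.support ∧
      (∀ y, f y = y → y ≠ x → y ∈ σ₀.support → y = σ₀ x) → τ x = σ₀ x := fun f a x ⟨b, d, e⟩ =>
    e _ (fixc (k f a) b) (Perm.mem_support.1 (sp ▸ d)) (sp ▸ Perm.apply_mem_support.2 (sp ▸ d))
  have m1 := m (c 2 4 6 * c 3 5 7) (by decide +kernel)
  have m2 := m (c 0 4 6 * c 1 5 7) (by decide +kernel)
  have m3 := m (c 0 2 6 * c 1 3 7) (by decide +kernel)
  have m4 := m (c 0 2 4 * c 1 3 5) (by decide +kernel)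
  rw [show τ = σ₀ from Equiv.ext fun x => ?_]
  fin_cases x
  exacts [m1 _ (by decide +kernel), m1 _ (by decide +kernel), m2 _ (by decide +kernel), m2 _ (by decide +kernel),
    m3 _ (by decide +kernel), m3 _ (by decide +kernel), m4 _ (by decide +kernel), m4 _ (by decide +kernel),
    (f0 _ (by decide +kernel)).trans (by decide +kernel), (f0 _ (by decide +kernel)).trans (by decide +kernel),
    (f0 _ (by decide +kernel)).trans (by decide +kernel)]

theorem P4 (h8 : (υ * υ).support.card = 8) (hυ : υ ^ 4 = 1) (hf : f ^ 3 = 1) (hg : g ^ 3 = 1) (c1 : υ * f = f * υ)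
    (c2 : υ * g = g * υ) (h : (f * g) ^ 4 = 1) : f * g = 1 := by
  have := small (by rw [map_mul, even_of_odd (by decide) hf, even_of_odd (by decide) hg, mul_one]) (off (f := f * g) h8
    fun x i => by rw [Perm.mul_apply, dis12 hυ hg c2 i, dis12 hυ hf c1 i])
  rwa [pow_succ, this, one_mul] at h

theorem odd_fix {n : ℕ} (hn : Odd n) (h : ω ^ n = 1) (h2 : ω (ω x) = x) : ω x = x := by
  obtain ⟨k, rfl⟩ := hn
  have := congrArg (· x) h
  simp only [pow_succ', Perm.mul_apply, Perm.one_apply] at this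
  rwa [pow_fix (show (ω ^ 2) x = x from h2)] at this

theorem P6 {n : ℕ} (hn : Odd n) (h : ω ^ n = 1) (c0 : ω * σ₀ = σ₀ * ω)
    (h1 : ∀ ρ : P11, Perm.sign ρ = 1 ∧ ρ * σ₀ = σ₀ * ρ ∧ ρ ^ 4 = 1 → ω * (ρ * ρ) = ρ * ρ * ω)
    (h2 : ω * (s 8 9 * s 0 1) = s 8 9 * s 0 1 * ω ∨
      ω * (s 0 2 * s 1 3 * (s 8 9 * s 0 1)) = s 0 2 * s 1 3 * (s 8 9 * s 0 1) * ω) : ω = 1 := by
  have k : ∀ ρ : P11, Perm.sign ρ = 1 ∧ ρ * σ₀ = σ₀ * ρ ∧ ρ ^ 4 = 1 → ∀ x ∈ (ρ * ρ).support, ω x ∈ (ρ * ρ).support :=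
    fun ρ a x i => supp_c (h1 ρ a).symm i
  have k1 := k (s 0 2 * s 1 3 * s 0 1 * s 8 9) (by decide +kernel)
  have k2 := k (s 0 4 * s 1 5 * s 0 1 * s 8 9) (by decide +kernel)
  have k3 := k (s 2 4 * s 3 5 * s 2 3 * s 8 9) (by decide +kernel)
  have k4 := k (s 0 6 * s 1 7 * s 0 1 * s 8 9) (by decide +kernel)
  have k5 := k (s 2 6 * s 3 7 * s 2 3 * s 8 9) (by decide +kernel)
  have m : ∀ A B : Finset (Fin 11), (∀ x ∈ A, ω x ∈ A) → (∀ x ∈ B, ω x ∈ B) → ∀ x, x ∈ A ∧ x ∈ B ∧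
      (∀ y ∈ A, y ∈ B → y ≠ x → ∀ z ∈ A, z ∈ B → z ≠ y → z = x) → ω x = x := fun A B a b x ⟨i, j, l⟩ =>
    by_contra fun n => n (odd_fix hn h (l _ (a x i) (b x j) n _ (a _ (a x i)) (b _ (b x j)) fun e => n (ω.injective e)))
  have f10 : ω 10 = 10 := by
    have a := fixc c0 (x := 10) (by decide +kernel)
    rcases h2 with e | e <;> have b := fixc e (x := 10) (by decide +kernel) <;> revert a b <;> generalize ω 10 = y <;>
      revert y <;> decide +kernel
  have q : ∀ x ∈ σ₀.supportᶜ.erase 10, ω x ∈ σ₀.supportᶜ.erase 10 := fun x i => by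
    simp only [Finset.mem_erase, Finset.mem_compl, Perm.mem_support, not_not] at i ⊢
    exact ⟨fun e => i.1 (ω.injective (e.trans f10.symm)), fixc c0 i.2⟩
  refine Equiv.ext fun x => ?_
  fin_cases x
  exacts [m _ _ k1 k2 _ (by decide +kernel), m _ _ k1 k2 _ (by decide +kernel), m _ _ k1 k3 _ (by decide +kernel),
    m _ _ k1 k3 _ (by decide +kernel), m _ _ k2 k3 _ (by decide +kernel), m _ _ k2 k3 _ (by decide +kernel),
    m _ _ k4 k5 _ (by decide +kernel), m _ _ k4 k5 _ (by decide +kernel), m _ _ q q _ (by decide +kernel),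
    m _ _ q q _ (by decide +kernel), f10]

/-- the alternating group of degree 11 -/
abbrev A11 := alternatingGroup (Fin 11)

theorem fix_pt (Y : Subgroup A11) (h : Y.index = 11) : ∃ j, ∀ y ∈ Y, (y : P11) j = j := by
  classical
  obtain ⟨O, hO⟩ : ∃ O : Finset (Fin 11), O = (orbit Y (0 : Fin 11)).toFinset := ⟨_, rfl⟩
  have i : ∀ y ∈ Y, ∀ x, (y : P11) x ∈ O ↔ x ∈ O := fun y a x => by
    rw [hO, Set.mem_toFinset, Set.mem_toFinset]
    exact ⟨fun b => inv_smul_smul (⟨y, a⟩ : Y) x ▸ mapsTo_smul_orbit (⟨y, a⟩⁻¹ : Y) _ b,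
      fun b => mapsTo_smul_orbit (⟨y, a⟩ : Y) _ b⟩
  have o0 : 0 ∈ O := by rw [hO, Set.mem_toFinset]; exact mem_orbit_self _
  have l : O.card ≤ 11 := by simpa using O.card_le_univ
  have p := Finset.card_pos.2 ⟨0, o0⟩
  by_cases e : O.card = 11
  · have a := card_orbit_mul_card_stabilizer_eq_card_group Y (0 : Fin 11)
    have b := Y.card_mul_index
    rw [← Set.toFinset_card, ← hO, e, ← Nat.card_eq_fintype_card (α := Y)] at a
    rw [h, ← a, card_A11] at b
    omega
  by_cases e' : O.card = 10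
  · obtain ⟨j, hj⟩ := Finset.card_eq_one.1 (show Oᶜ.card = 1 by rw [Finset.card_compl, e']; rfl)
    refine ⟨j, fun y a => Finset.mem_singleton.1 ?_⟩
    rw [← hj, Finset.mem_compl, i y a, ← Finset.mem_compl, hj]; exact Finset.mem_singleton_self j
  have := alternatingGroup.isMultiplyPretransitive (Fin 11)
  have := isMultiplyPretransitive_of_le (G := A11) (α := Fin 11) (m := O.card) (n := Nat.card (Fin 11) - 2)
    (by simp; omega) (by simp)
  have : IsPretransitive A11 (Set.powersetCard (Fin 11) O.card) :=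
    ⟨(Set.powersetCard.isPretransitive_of_isMultiplyPretransitive A11 this).1⟩
  obtain ⟨X, hX⟩ : ∃ X : Set.powersetCard (Fin 11) O.card, X.1 = O := ⟨⟨O, rfl⟩, rfl⟩
  have d : (stabilizer A11 X).index ∣ 11 :=
    (index_dvd_of_le (H := Y) fun y a => by
      rw [mem_stabilizer_iff, ← Subtype.coe_inj, Subgroup.smul_def, Set.powersetCard.coe_smul, hX]
      ext x; rw [← Finset.inv_smul_mem_iff]; exact i _ (inv_mem a) x).trans h.dvd
  rw [index_stabilizer_of_transitive, Set.powersetCard.card, Nat.card_fin] at d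
  obtain ⟨j, hj⟩ := Finset.card_eq_one.1 (show O.card = 1 by
    generalize O.card = k at *
    interval_cases k <;> simp_all (config := {decide := true}))
  exact ⟨j, fun y a => Finset.mem_singleton.1 (by rw [← hj, i y a, hj]; exact Finset.mem_singleton_self j)⟩

theorem stab_fix {j k : Fin 11} (h : ∀ y : A11, (y : P11) j = j → (y : P11) k = k) : k = j := by
  by_contra n
  obtain ⟨a, ha⟩ := Cov.pick [j, k] (by simp)
  obtain ⟨b, hb⟩ := Cov.pick [j, k, a] (by simp)
  simp only [List.mem_cons, List.not_mem_nil, or_false, not_or] at ha hb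
  have := h ⟨c k a b, by simp [Perm.mem_alternatingGroup, Ne.symm ha.2, Ne.symm hb.2.1]⟩
    (by simp [swap_apply_of_ne_of_ne, Ne.symm n, Ne.symm ha.1, Ne.symm hb.1])
  simp only [Perm.mul_apply, swap_apply_left, swap_apply_of_ne_of_ne hb.2.1 hb.2.2] at this
  exact hb.2.1 this

theorem cent_triv (h : ∀ y : P11, Perm.sign y = 1 → σ * y = y * σ) : σ = 1 :=
  Equiv.ext fun x => stab_fix fun y i => fixc (h y y.2) i

theorem aut {H : Type*} [Group H] (ψ ψ' : H →* A11) (s : Function.Surjective ψ) (s' : Function.Surjective ψ')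
    (k : ψ.ker = ψ'.ker) : ∃ σ : P11, ∀ h, (ψ' h : P11) = σ * ψ h * σ⁻¹ := by
  have := alternatingGroup.isPretransitive_of_three_le_card (Fin 11) (by simp)
  have ix : ∀ i : Fin 11, (stabilizer A11 i).index = 11 := fun i => by rw [index_stabilizer_of_transitive, Nat.card_fin]
  have iy : ∀ i : Fin 11, (((stabilizer A11 i).comap ψ).map ψ').index = 11 := fun i => by
    rw [index_map_eq _ s' (k ▸ ker_le_comap ψ _), index_comap_of_surjective _ s, ix]
  choose f hf using fun i => fix_pt _ (iy i)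
  have e : ∀ i h, (ψ' h : P11) (f i) = f i ↔ (ψ h : P11) i = i := fun i h => by
    have : ((stabilizer A11 i).comap ψ).map ψ' = stabilizer A11 (f i) :=
      eq_of_le_of_card_ge (hf i) (by
        have a := card_mul_index (stabilizer A11 (f i))
        have b := card_mul_index (((stabilizer A11 i).comap ψ).map ψ')
        rw [ix] at a; rw [iy] at b; omega)
    refine ⟨fun a => ?_, fun a => hf i _ (mem_map_of_mem _ a)⟩
    have b : h ∈ (((stabilizer A11 i).comap ψ).map ψ').comap ψ' := this ▸ a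
    rwa [comap_map_eq_self (k ▸ ker_le_comap ψ _)] at b
  have inj : Function.Injective f := fun i j a => stab_fix fun y b => by
    obtain ⟨h, rfl⟩ := s y
    rwa [← e, a, e]
  refine ⟨Equiv.ofBijective f (Finite.injective_iff_bijective.1 inj), fun h => eq_mul_inv_of_mul_eq (Equiv.ext fun i =>
    stab_fix fun y b => ?_)⟩
  obtain ⟨g, rfl⟩ := s' y
  simp only [Perm.mul_apply, Equiv.ofBijective_apply] at b ⊢
  rw [e] at b
  have := (e i (h⁻¹ * g * h)).2 (by simp [b])
  simpa [Perm.inv_eq_iff_eq, Equiv.symm_apply_eq] using this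

end Cfsg.Agent.DA
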